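import Groth.Agent.PP93.Alg
import Groth.Prelude.Def_DiffOp

/-! Differential operators in the commutator sense kill powers of the diagonal ideal. -/

set_option autoImplicit false

noncomputable section

open TensorProduct

namespace Groth.Agent.DiffAff57

open Groth.Agent.PP93

universe u v

variable {R A : Type u} [CommRing R] [CommRing A] [Algebra R A]
variable {M N : Type v} [AddCommGroup M] [Module R M] [Module A M] [IsScalarTower R A M]
  [AddCommGroup N] [Module R N] [Module A N] [IsScalarTower R A N]

theorem isBaseLinear_toAddMonoidHom (D : M →ₗ[R] N) :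
    IsBaseLinear (A := A) R D.toAddMonoidHom := fun r t => by
  show D (algebraMap R A r • t) = algebraMap R A r • D t
  rw [algebraMap_smul, algebraMap_smul, map_smul]

theorem pairing_commutator (D : M →ₗ[R] N) (b : A) (z : A ⊗[R] A) (t : M) :
    pairing (Diff16.commutator R A M N D b).toAddMonoidHom (isBaseLinear_toAddMonoidHom _) z t =
      pairing D.toAddMonoidHom (isBaseLinear_toAddMonoidHom D) (z * dd R b) t := by
  induction z using TensorProduct.induction_on with
  | zero => simp
  | add x y hx hy => simp [add_mul, hx, hy]
  | tmul x y =>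
    rw [dd, mul_sub, map_sub, AddMonoidHom.sub_apply, Algebra.TensorProduct.tmul_mul_tmul,
      Algebra.TensorProduct.tmul_mul_tmul, pairing_tmul, pairing_tmul, pairing_tmul, mul_one, mul_one,
      mul_comm y b, mul_smul, mul_smul, ← smul_sub]
    rfl

theorem kills_of_dd (D : M →+ N) (hD : IsBaseLinear (A := A) R D) (n : ℕ)
    (h : ∀ (b : A), ∀ z ∈ KaehlerDifferential.ideal R A ^ n, pairing D hD (z * dd R b) = 0) :
    Kills D hD n := by
  intro w hw
  rw [pow_succ] at hw
  induction hw using Submodule.mul_induction_on' with
  | mem_mul_mem z hz x hx =>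
    rw [← KaehlerDifferential.span_range_eq_ideal] at hx
    induction hx using Submodule.span_induction generalizing z with
    | mem x hx =>
      obtain ⟨b, rfl⟩ := hx
      exact h b z hz
    | zero => simp
    | add x y _ _ ihx ihy => rw [mul_add, map_add, ihx z hz, ihy z hz, add_zero]
    | smul c x _ ihx =>
      rw [smul_eq_mul, ← mul_assoc]
      exact ihx (z * c) (Ideal.mul_mem_right _ _ hz)
  | add x _ y _ hx hy => rw [map_add, hx, hy, add_zero]

theorem kills_of_isDiffOpLE {n : ℕ} (D : M →ₗ[R] N) (hD : Diff16.IsDiffOpLE R A M N n D) :
    Kills D.toAddMonoidHom (isBaseLinear_toAddMonoidHom (A := A) D) n := by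
  induction n generalizing D with
  | zero =>
    refine kills_of_dd _ _ _ fun b z hz => ?_
    clear hz
    ext t
    rw [← pairing_commutator]
    have : Diff16.commutator R A M N D b = 0 := LinearMap.ext fun m => sub_eq_zero.2 (hD b m)
    induction z using TensorProduct.induction_on with
    | zero => simp
    | add x y hx hy => simp only [map_add, AddMonoidHom.add_apply, hx, hy, AddMonoidHom.zero_apply, add_zero]
    | tmul x y =>
      rw [pairing_tmul]
      show x • (Diff16.commutator R A M N D b) (y • t) = 0
      rw [this, LinearMap.zero_apply, smul_zero]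
  | succ n ih =>
    refine kills_of_dd _ _ _ fun b z hz => ?_
    ext t
    rw [← pairing_commutator, ih _ (hD b) z hz]

end Groth.Agent.DiffAff57
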