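import Groth.Agent.PP93.Crit
import Groth.Agent.PP93.Finite
import Groth.Agent.SchBasics.PullSpan
import Groth.Agent.DiffAff57.Kills

/-! Differential operators between global sections over an affine scheme come from sheaf operators. -/

set_option autoImplicit false
set_option backward.isDefEq.respectTransparency false
set_option linter.style.haveILetI false

noncomputable section

universe u

open CategoryTheory Limits AlgebraicGeometry TopologicalSpace Opposite TensorProduct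
open Groth.Agent.QC70

namespace Groth.Agent.DiffAff57

open Groth.Agent.PP93 Groth.Agent

/-- The universal semilinear map out of the sections of an inverse image over an affine open. -/
theorem exists_toTensor {X P : Scheme.{u}} (h : X ⟶ P) (M : P.Modules) [M.IsQuasicoherent]
    {U : X.Opens} (hU : IsAffineOpen U) {W : P.Opens} (hW : IsAffineOpen W) (e : U ≤ h ⁻¹ᵁ W) :
    letI := (h.appLE W U e).hom.toAlgebra
    ∃ v : Γ((Scheme.Modules.pullback h).obj M, U) →ₗ[Γ(X, U)] Γ(X, U) ⊗[Γ(P, W)] Γ(M, W),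
      ∀ m, v (res ((Scheme.Modules.pullback h).obj M) e (OmegaSh.pullSect h M W m)) = 1 ⊗ₜ m := by
  letI := (h.appLE W U e).hom.toAlgebra
  let G := (Scheme.Modules.pullback h).obj M
  let T : ModuleCat Γ(X, U) := ModuleCat.of Γ(X, U) (Γ(X, U) ⊗[Γ(P, W)] Γ(M, W))
  have hjW : (⊤ : (Spec Γ(X, U)).Opens) ≤ hU.fromSpec ⁻¹ᵁ (h ⁻¹ᵁ W) :=
    hU.fromSpec_preimage_self.ge.trans (hU.fromSpec.preimage_mono e)
  let g : Γ(M, W) →+ Γ(tilde T, (⊤ : (Spec Γ(X, U)).Opens)) :=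
    AddMonoidHom.mk' (fun m => toTop T ((1 : Γ(X, U)) ⊗ₜ[Γ(P, W)] m)) fun a b => by
      rw [TensorProduct.tmul_add]; exact map_add (toTop T) _ _
  obtain ⟨a, ha⟩ := Omega57.exists_hom_open h M hU.fromSpec hjW hW g fun r m => by
    show toTop T ((1 : Γ(X, U)) ⊗ₜ[Γ(P, W)] (r • m)) = _
    rw [Omega57.ringHomOpen_fromSpec hU h e hjW r, ← TensorProduct.smul_tmul]
    refine (congrArg (toTop T) ?_).trans (map_smul (toTop T) _ _)
    rw [TensorProduct.smul_tmul', smul_eq_mul, mul_one, Algebra.smul_def, mul_one]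
    rfl
  let eT : Γ(G.restrict hU.fromSpec, (⊤ : (Spec Γ(X, U)).Opens)) ≃ₗ[Γ(X, U)] Γ(G, U) :=
    QCPull72.specTopEquiv G hU
  let τ : T →ₗ[Γ(X, U)] Γ(tilde T, (⊤ : (Spec Γ(X, U)).Opens)) :=
    { toFun := toTop T
      map_add' := map_add _
      map_smul' := map_smul (toTop T) }
  have hτ : Function.Bijective τ := ConcreteCategory.bijective_of_isIso (tilde.toOpen T ⊤)
  let τe := LinearEquiv.ofBijective τ hτ
  let aL : Γ(G.restrict hU.fromSpec, (⊤ : (Spec Γ(X, U)).Opens)) →ₗ[Γ(X, U)]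
      Γ(tilde T, (⊤ : (Spec Γ(X, U)).Opens)) := (moduleSpecΓFunctor.map a).hom
  refine ⟨τe.symm.toLinearMap ∘ₗ aL ∘ₗ eT.symm.toLinearMap, fun m => ?_⟩
  have hp : eT (Omega57.pullOpen h M hU.fromSpec hjW m) = res G e (OmegaSh.pullSect h M W m) := by
    show res G (QCPull72.fromSpec_image_top hU).ge (res G (hU.fromSpec.image_mono hjW)
      (res G (hU.fromSpec.image_preimage_le (h ⁻¹ᵁ W)) (OmegaSh.pullSect h M W m))) = _
    rw [res_res, res_res]
  rw [← hp, LinearMap.comp_apply, LinearMap.comp_apply, LinearEquiv.coe_coe, LinearEquiv.coe_coe,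
    LinearEquiv.symm_apply_apply, LinearEquiv.symm_apply_eq]
  exact ha m

/-- An operator on global sections killing a power of the diagonal ideal comes from an operator of sheaves. -/
theorem exists_isDiffOpLE {X S : Scheme.{u}} [IsAffine X] [IsAffine S] (f : X ⟶ S) (F G : X.Modules)
    [F.IsQuasicoherent] (n : ℕ) (h : (⊤ : X.Opens) ≤ f ⁻¹ᵁ ⊤) (D' : Γ(F, ⊤) →+ Γ(G, ⊤)) :
    letI := (f.appLE ⊤ ⊤ h).hom.toAlgebra
    ∀ hb : IsBaseLinear (A := Γ(X, ⊤)) Γ(S, ⊤) D', Kills D' hb n →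
      ∃ D : F.presheaf ⟶ G.presheaf, PrinPart.IsDiffOpLE f F G n D ∧
        ∀ m : Γ(F, ⊤), (D.app (op ⊤)).hom m = D' m := by
  letI := (f.appLE ⊤ ⊤ h).hom.toAlgebra
  intro hb hk
  obtain ⟨r, hrs, hr, hker⟩ := exists_nbhdHom f n (isAffineOpen_top X) (isAffineOpen_top S) h
  let V := PrinPart.pr1 f n ⁻¹ᵁ (⊤ : X.Opens)
  have hV : IsAffineOpen V := isAffineOpen_preimage_pr1 f n (isAffineOpen_top X) (isAffineOpen_top S) h
  let e : V ≤ PrinPart.pr2 f n ⁻¹ᵁ ⊤ := (PrinPart.preimage_pr1 f n ⊤).le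
  let ψ : Γ(PrinPart.nbhd f n, V) →+ (Γ(F, ⊤) →+ Γ(G, ⊤)) :=
    AddMonoidHom.liftOfSurjective r.toAddMonoidHom hrs ⟨pairing D' hb, fun w hw => hk w ((hker w).1 hw)⟩
  have hψ : ∀ z, ψ (r z) = pairing D' hb z := fun z =>
    AddMonoidHom.liftOfRightInverse_comp_apply _ _ _ _ _
  have hψ2 : ∀ (b : Γ(X, ⊤)) c t, ψ ((PrinPart.pr2 f n).appLE ⊤ V e b * c) t = ψ c (b • t) := by
    intro b c t
    obtain ⟨z, rfl⟩ := hrs c
    have e1 : r (1 ⊗ₜ b) = (PrinPart.pr2 f n).appLE ⊤ V e b := by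
      rw [hr, map_one, one_mul]
    rw [← e1, ← map_mul, hψ, hψ, mul_comm, pairing_right_mul]
  have hψ1 : ∀ (a : Γ(X, ⊤)) c t, ψ ((PrinPart.pr1 f n).app ⊤ a * c) t = a • ψ c t := by
    intro a c t
    obtain ⟨z, rfl⟩ := hrs c
    have e1 : r (a ⊗ₜ 1) = (PrinPart.pr1 f n).app ⊤ a := by
      rw [hr, map_one, mul_one]
    rw [← e1, ← map_mul, hψ, hψ, pairing_left_mul]
  letI := ((PrinPart.pr2 f n).appLE ⊤ V e).hom.toAlgebra
  obtain ⟨v, hv⟩ := exists_toTensor (PrinPart.pr2 f n) F hV (isAffineOpen_top X) e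
  let w : Γ(PrinPart.nbhd f n, V) ⊗[Γ(X, ⊤)] Γ(F, ⊤) →+ Γ(G, ⊤) :=
    TensorProduct.liftAddHom ψ fun b c t => hψ2 b c t
  have hw : ∀ (a : Γ(X, ⊤)) z, w ((PrinPart.pr1 f n).app ⊤ a • z) = a • w z := by
    intro a z
    induction z using TensorProduct.induction_on with
    | zero => rw [smul_zero, map_zero, smul_zero]
    | add x y hx hy => rw [smul_add, map_add, map_add, hx, hy, smul_add]
    | tmul c t =>
      rw [TensorProduct.smul_tmul', smul_eq_mul]
      exact hψ1 a c t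
  let M := (Scheme.Modules.pullback (PrinPart.pr2 f n)).obj F
  haveI : (PrinPart.PMod f n F).IsQuasicoherent := isQCoh_PMod f n F inferInstance
  let l : Γ(PrinPart.PMod f n F, ⊤) →ₗ[Γ(X, ⊤)] Γ(G, ⊤) :=
    { toFun := fun s => w (v (show Γ(M, V) from s))
      map_add' := fun s t => (congrArg w (map_add v (show Γ(M, V) from s) (show Γ(M, V) from t))).trans (map_add w _ _)
      map_smul' := fun a s => (congrArg w (map_smul v ((PrinPart.pr1 f n).app ⊤ a) (show Γ(M, V) from s))).trans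
        (hw a _) }
  let u : PrinPart.PMod f n F ⟶ G := (HomOn.ofLinear (isAffineOpen_top X) l).toHom
  have hu : ∀ s, u.app ⊤ s = l s := fun s => by
    rw [HomOn.toHom_app, HomOn.ofLinear_app_self]
  refine ⟨PrinPart.dPHom f n F ≫ (SheafOfModules.toSheaf _ |>.map u).hom, ⟨u, fun U t => rfl⟩, fun m => ?_⟩
  refine (hu _).trans ?_
  show w (v (res M e (OmegaSh.pullSect (PrinPart.pr2 f n) F ⊤ m))) = D' m
  rw [hv]
  show ψ 1 m = D' m
  rw [show (1 : Γ(PrinPart.nbhd f n, V)) = r (1 ⊗ₜ 1) from (map_one r).symm, hψ, pairing_tmul, one_smul,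
    one_smul]

end Groth.Agent.DiffAff57
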